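import Mathlib

/-!
# Tables for the labelling and the automorphism exchanging two classes
-/

set_option autoImplicit false

namespace CfsgLib.Spor.HSSylow

/-- The number, in the table of the permutation group, of the element with a code. -/
def qTab : ℕ := 0x7e6263e4cfe16e015abf8a299fda541b0734d3fd13dce39f1fde7b5f1dfc5c34936579c2224be2d2991195e238180f7334102d468ff8562396cedeeb59c08c656b044180e75588a8d1a973c013f334e02112a9c2a686dee1300d7dcfadb371be69f360bd5706b19a84ae665f5df2907bd73357a2b0392d1cbda0bf7b4be9b9d02f03cfbe1a230b86e44a64b2749ef6ff9edc72a07b1536ae342b1789126c464cc440f71e904a24d25780860a76520d8f071024cf994720745c55105575acdd9f18c2542b2114ee1b5c8b3d125f6aefd7fa18ac060ea8406fda37d3e19eb7376474643397f9f50a05a4b79e57e0f6fb55a2876423976a52c84c608b8108eb7d5f03679552eace39f748f44a4fd7a916d547ef27a19a04392c482f806057e4a42905d8ca356b84ec1397c90e884642e15e5a46e6748ebd84e22376945c28100d3f0b4421c68ae0a1117c7442902eb58b285657e9663d7d759afc6aaf268187d363fb35c8ad9b7b921a611fc3e6e52690079ddbb741e96f9898d413a746c675eac585ef8d20ce7ec6382186631debb43bfc5edb8d64af4df437e87d8217cec6bbda6e82bc5c94a0f32ae3e1e4989e1f2c0827feeb6fe9c3e89b6c895266d85aee023579dca8f3679389f7e3c80737397f54270574daff9829f0c9fe5076321b5ca75249443a60545aa655cee749a43ca61269998167135f6c020ef50edb1e7ef8369d70ac572d43c32742bd7b4baa7fe18d9b31679adba0b84aa518872ad47b5228b46ef1d0ad762afcc7cf932f56231f48c5ef0a5fe81827bf484b4048099dea00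

/-- An automorphism exchanging the classes five and six and fixing the others used. -/
def twistTab : ℕ := 0xfa7dfedf5f87cfe5f1fe7fffdfdfc7eff5f9f279fcde5f078fc5e1f67bfddedf47afd5e9ea75fadd5e874fa5d1ee77fbdddec76fb5d9e271f8dc5e070f85c1e673f9dcde472f95c9da6df6db5d86cf65b1de6ff7dbddc6ef75b9d269f4da5d068f45a1d66bf5dadd46af55a9ca65f2d95c864f2591ce67f3d9dcc66f3599c261f0d85c060f0581c663f1d8dc462f1589ba5deed75b85cee571be5fefd7dbc5eef579b259ecd65b058ec561b65bedd6db45aed569aa55ead55a854ea551ae57ebd5dac56eb559a251e8d45a050e8541a653e9d4da452e95499a4de6d35984ce65319e4fe7d3d9c4ee75399249e4d259048e4521964be5d2d944ae55298a45e2d158844e25118e47e3d1d8c46e35198241e0d058040e05018643e1d0d8442e15097fbf9fafc7dbe9f2f87bbd9eaf479bc9e2f077bb9daec75ba9d2e873b99cae471b89c2e06fb79badc6db69b2d86bb59aad469b49a2d067b399acc65b2992c863b198ac461b0982c05faf97abc5dae972b85bad96ab459ac962b057ab95aac55aa952a853a994aa451a8942a04fa793a9c4da6932984ba592a9449a49229047a391a8c45a29128843a190a8441a0902803f9f8fa7c3d9e8f2783b9d8ea74399c8e270379b8da6c359a8d26833998ca6431988c2602f978ba5c2d968b2582b958aa5429948a250279389a4c259289248239188a442190882401f8f87a3c1d8e872381b8d86a34198c86230178b85a2c158a85228138984a241188842200f8783a1c0d86832180b8582a14098482210078381a0c058281208038180a04018080200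

end CfsgLib.Spor.HSSylow
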